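import Mathlib

/-!
# Auxiliary lemmas on `p`-groups and conjugation (helper57)

Small self-contained lemmas (Mathlib only) used for statement S3031.
-/

namespace Cfsg.Agent.Lib.Helper57.HSub

variable {G : Type*} [Group G]

/-- elementwise form of `g E g⁻¹ ⊓ N(E) ≤ E`. -/
theorem good_elem {E : Subgroup G}
    (hE : ∀ g : G, E.map (MulAut.conj g).toMonoidHom ⊓ Subgroup.normalizer (E : Set G) ≤ E)
    {g e : G} (he : e ∈ E) (hn : g * e * g⁻¹ ∈ Subgroup.normalizer (E : Set G)) :
    g * e * g⁻¹ ∈ E :=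
  hE g ⟨⟨e, he, by simp [MulAut.conj_apply]⟩, hn⟩

theorem mem_normalizer_of_conj_mem [Finite G] {H : Subgroup G} {g : G}
    (h1 : ∀ x ∈ H, g * x * g⁻¹ ∈ H) : g ∈ Subgroup.normalizer (H : Set G) := by
  rw [Subgroup.mem_normalizer_iff]
  intro x
  refine ⟨h1 x, fun hx => ?_⟩
  have hinj : Function.Injective (fun y : H => (⟨g * y * g⁻¹, h1 y y.2⟩ : H)) := by
    intro a b hab
    have : g * (a : G) * g⁻¹ = g * (b : G) * g⁻¹ := congrArg Subtype.val hab
    exact Subtype.ext (mul_left_cancel (mul_right_cancel this))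
  obtain ⟨y, hy⟩ := (Finite.surjective_of_injective hinj) ⟨g * x * g⁻¹, hx⟩
  have : g * (y : G) * g⁻¹ = g * x * g⁻¹ := congrArg Subtype.val hy
  have hxy : (y : G) = x := mul_left_cancel (mul_right_cancel this)
  rw [← hxy]; exact y.2

/-- normalizers grow in finite `p`-groups (ambient form). -/
theorem exists_mem_normalizer_not_mem [Finite G] {p : ℕ} [Fact p.Prime] {S Q : Subgroup G}
    (hS : IsPGroup p S) (hQS : Q ≤ S) (hne : Q ≠ S) :
    ∃ g ∈ S, g ∈ Subgroup.normalizer (Q : Set G) ∧ g ∉ Q := by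
  have : Group.IsNilpotent S := hS.isNilpotent
  have hnc : NormalizerCondition S := Group.normalizerCondition_of_isNilpotent
  have hlt : Q.subgroupOf S < ⊤ := by
    rw [lt_top_iff_ne_top]
    intro h
    exact hne (le_antisymm hQS (Subgroup.subgroupOf_eq_top.mp h))
  have h2 := hnc _ hlt
  obtain ⟨s, hs, hsn⟩ := SetLike.exists_of_lt h2
  refine ⟨s, s.2, ?_, fun h => hsn (Subgroup.mem_subgroupOf.mpr h)⟩
  apply mem_normalizer_of_conj_mem
  intro q hq
  have := (Subgroup.mem_normalizer_iff.mp hs ⟨q, hQS hq⟩).1 (Subgroup.mem_subgroupOf.mpr hq)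
  exact Subgroup.mem_subgroupOf.mp this

/-- A `p`-subgroup `E` with `g E g⁻¹ ⊓ N(E) ≤ E` for all `g` is normal in every `p`-subgroup
containing it. -/
theorem le_normalizer_of_good [Finite G] {p : ℕ} [Fact p.Prime] {P E : Subgroup G}
    (hP : IsPGroup p P) (hEP : E ≤ P)
    (hE : ∀ g : G, E.map (MulAut.conj g).toMonoidHom ⊓ Subgroup.normalizer (E : Set G) ≤ E) :
    P ≤ Subgroup.normalizer (E : Set G) := by
  by_contra hcon
  have hne : P ⊓ Subgroup.normalizer (E : Set G) ≠ P := fun h => hcon (inf_eq_left.mp h)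
  obtain ⟨g, hgP, hgn, hg⟩ := exists_mem_normalizer_not_mem hP inf_le_left hne
  apply hg
  refine ⟨hgP, mem_normalizer_of_conj_mem fun e he => ?_⟩
  have he1 : e ∈ P ⊓ Subgroup.normalizer (E : Set G) := ⟨hEP he, Subgroup.le_normalizer he⟩
  have he2 := (Subgroup.mem_normalizer_iff.mp hgn e).1 he1
  exact good_elem hE he he2.2

/-- such an `E` is strongly closed in `P`. -/
theorem sc_of_good [Finite G] {p : ℕ} [Fact p.Prime] {P E : Subgroup G}
    (hP : IsPGroup p P) (hEP : E ≤ P)
    (hE : ∀ g : G, E.map (MulAut.conj g).toMonoidHom ⊓ Subgroup.normalizer (E : Set G) ≤ E)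
    {g e : G} (he : e ∈ E) (hg : g * e * g⁻¹ ∈ P) : g * e * g⁻¹ ∈ E :=
  good_elem hE he (le_normalizer_of_good hP hEP hE hg)

/-- an automorphism of a group of prime order `p` whose order is prime to `p - 1` is trivial. -/
theorem aut_eq_one_of_card_prime {A : Type*} [Group A] [Finite A] {p : ℕ} [Fact p.Prime]
    (hA : Nat.card A = p) (σ : MulAut A) {m : ℕ} (hσ : σ ^ m = 1) (hm : m.Coprime (p - 1)) :
    σ = 1 := by
  have hp : p.Prime := Fact.out
  have hc : IsCyclic A := isCyclic_of_prime_card hA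
  have h1 : Nat.card (MulAut A) = p - 1 := by
    rw [IsCyclic.card_mulAut A, hA, Nat.totient_prime hp]
  have h2 : orderOf σ ∣ p - 1 := h1 ▸ orderOf_dvd_natCard σ
  have h3 : orderOf σ ∣ m := orderOf_dvd_of_pow_eq_one hσ
  exact orderOf_eq_one_iff.mp (Nat.eq_one_of_dvd_coprimes hm h3 h2)

/-- coatoms of a finite `p`-group are normal of index `p`. -/
theorem coatom_normal_index {F : Type*} [Group F] [Finite F] {p : ℕ} [Fact p.Prime]
    (hF : IsPGroup p F) {M : Subgroup F} (hM : IsCoatom M) : M.Normal ∧ M.index = p := by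
  have hp : p.Prime := Fact.out
  have hnil : Group.IsNilpotent F := hF.isNilpotent
  have hMn : M.Normal :=
    Subgroup.NormalizerCondition.normal_of_coatom M Group.normalizerCondition_of_isNilpotent hM
  refine ⟨hMn, ?_⟩
  rw [Subgroup.index_eq_card]
  obtain ⟨k, hk⟩ := hF.index M
  have hk0 : k ≠ 0 := by
    intro h0
    rw [h0, pow_zero, Subgroup.index_eq_one] at hk
    exact hM.1 hk
  have hdvd : p ^ 1 ∣ Nat.card (F ⧸ M) := by
    have : Nat.card (F ⧸ M) = p ^ k := hk
    rw [this]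
    exact pow_dvd_pow p (by omega)
  obtain ⟨K, hK⟩ := Sylow.exists_subgroup_card_pow_prime p hdvd
  have hle : M ≤ K.comap (QuotientGroup.mk' M) := QuotientGroup.le_comap_mk' M K
  have hne : M ≠ K.comap (QuotientGroup.mk' M) := by
    intro h
    have h1 : K = (K.comap (QuotientGroup.mk' M)).map (QuotientGroup.mk' M) :=
      (Subgroup.map_comap_eq_self_of_surjective (QuotientGroup.mk'_surjective M) K).symm
    rw [← h, QuotientGroup.map_mk'_self] at h1
    rw [h1, Subgroup.card_bot, pow_one] at hK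
    exact hp.one_lt.ne hK
  have htop : K.comap (QuotientGroup.mk' M) = ⊤ := hM.2 _ (lt_of_le_of_ne hle hne)
  have hKtop : K = ⊤ := by
    have h1 : K = (K.comap (QuotientGroup.mk' M)).map (QuotientGroup.mk' M) :=
      (Subgroup.map_comap_eq_self_of_surjective (QuotientGroup.mk'_surjective M) K).symm
    rw [htop, Subgroup.map_top_of_surjective _ (QuotientGroup.mk'_surjective M)] at h1
    exact h1
  rw [hKtop, Subgroup.card_top, pow_one] at hK
  exact hK

theorem mem_frattini_iff {F : Type*} [Group F] (z : F) :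
    z ∈ frattini F ↔ ∀ M : Subgroup F, IsCoatom M → z ∈ M := by
  simp only [frattini, Order.radical, Subgroup.mem_iInf]
  exact Iff.rfl

/-- a subgroup of order `p ^ m` between `H` and `K`. -/
theorem exists_between [Finite G] {p : ℕ} [Fact p.Prime] {H K : Subgroup G} (hHK : H ≤ K)
    {n m : ℕ} (hH : Nat.card H = p ^ n) (hnm : n ≤ m) (hK : p ^ m ∣ Nat.card K) :
    ∃ E : Subgroup G, H ≤ E ∧ E ≤ K ∧ Nat.card E = p ^ m := by
  have hc : Nat.card (H.subgroupOf K) = p ^ n := by
    rw [← hH]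
    exact Nat.card_congr (Subgroup.subgroupOfEquivOfLe hHK).toEquiv
  obtain ⟨K', hK', hle⟩ := Sylow.exists_subgroup_card_pow_prime_le p hK (H.subgroupOf K) hc hnm
  refine ⟨K'.map K.subtype, ?_, Subgroup.map_subtype_le _, ?_⟩
  · intro h hh
    exact ⟨⟨h, hHK hh⟩, hle (Subgroup.mem_subgroupOf.mpr hh), rfl⟩
  · rw [Subgroup.card_map_of_injective K.subtype_injective, hK']

end Cfsg.Agent.Lib.Helper57.HSub
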