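import Cfsg.Agent.Lib.Lead.FH.Defs

/-!
# Feit–Higman (S1142), work package A1: dihedral lemmas (alternative proofs)

The versions used by the assembly of S1142 are those of `Cfsg.Agent.Lib.Helper76.FHA1`
(exact skeleton statements); this file lives in its own namespace so that the two never clash.

For two involutions `s`, `t` of a group `W`, with `r = s * t` of order `m`:
* `alt_braid`: `alt s t m = alt t s m`;
* `list_prod_ne_alt`: a product of fewer than `k ≤ m` letters `s`, `t` is not `alt s t k`;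
* `dihedral_card`: if `W` is finite and generated by `s ≠ t`, then `|W| = 2 m` and `2 ≤ m`.
-/

set_option autoImplicit false

namespace Cfsg.Agent.Lib.Helper57.FHA1

open Cfsg.Agent.Lib.Lead.FH

theorem a1_alt_two_mul {M : Type*} [Monoid M] (x y : M) (i : ℕ) :
    alt x y (2 * i) = (x * y) ^ i := by
  induction i with
  | zero => rw [pow_zero]; rfl
  | succ i ih =>
    have h : alt x y (2 * (i + 1)) = x * (y * alt x y (2 * i)) := rfl
    rw [h, ih, pow_succ', mul_assoc]

theorem a1_alt_two_mul_add_one {M : Type*} [Monoid M] (x y : M) (i : ℕ) :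
    alt x y (2 * i + 1) = x * (y * x) ^ i := by
  have h : alt x y (2 * i + 1) = x * alt y x (2 * i) := rfl
  rw [h, a1_alt_two_mul]

section dihedral

variable {W : Type*} [Group W] {s t : W}

theorem a1_inv_mul (hs : s * s = 1) (ht : t * t = 1) : (s * t)⁻¹ = t * s := by
  apply inv_eq_of_mul_eq_one_right
  calc s * t * (t * s) = s * (t * t) * s := by group
    _ = 1 := by rw [ht, mul_one, hs]

theorem a1_orderOf_swap (hs : s * s = 1) (ht : t * t = 1) :
    orderOf (t * s) = orderOf (s * t) := by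
  rw [← a1_inv_mul hs ht, orderOf_inv]

/-- `s` is not a power of `s * t` (when `s ≠ 1` and `t ≠ 1`). -/
theorem a1_zpow_ne (hs : s * s = 1) (ht : t * t = 1) (hs1 : s ≠ 1) (ht1 : t ≠ 1) (a : ℤ) :
    (s * t) ^ a ≠ s := by
  intro h
  have hc : Commute s (s * t) := by
    have h0 : Commute ((s * t) ^ a) (s * t) := (Commute.refl (s * t)).zpow_left a
    rwa [h] at h0
  have h1 : s * t = t * s := by
    have h3 : s * (s * t) = s * t * s := hc.eq
    rw [← mul_assoc, hs, one_mul] at h3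
    calc s * t = s * (s * t * s) := by rw [← h3]
      _ = (s * s) * t * s := by group
      _ = t * s := by rw [hs, one_mul]
  have h2 : (s * t) ^ (2 : ℤ) = 1 := by
    rw [zpow_two]
    nth_rewrite 2 [h1]
    calc s * t * (t * s) = s * (t * t) * s := by group
      _ = 1 := by rw [ht, mul_one, hs]
  rcases Int.even_or_odd' a with ⟨q, rfl | rfl⟩
  · rw [zpow_mul, h2, one_zpow] at h
    exact hs1 h.symm
  · rw [zpow_add, zpow_mul, h2, one_zpow, one_mul, zpow_one] at h
    exact ht1 (mul_left_cancel (a := s) (by rw [h, mul_one]))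

/-- every product of letters `s`, `t` is `r ^ a` or `s * r ^ a` with a bound on `a` in terms of
the number of letters -/
theorem a1_list_prod (hs : s * s = 1) (ht : t * t = 1) (L : List W)
    (hL : ∀ x ∈ L, x = s ∨ x = t) :
    (∃ a : ℤ, L.prod = (s * t) ^ a ∧ 2 * |a| ≤ L.length) ∨
    (∃ a : ℤ, L.prod = s * (s * t) ^ a ∧ |2 * a - 1| ≤ L.length) := by
  induction L with
  | nil => left; exact ⟨0, by simp, by simp⟩
  | cons x L ih =>
    have ih' := ih (fun y hy => hL y (List.mem_cons_of_mem _ hy))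
    have hx := hL x List.mem_cons_self
    rw [List.prod_cons, List.length_cons]
    push_cast
    rcases hx with rfl | rfl
    · rcases ih' with ⟨a, ha, hl⟩ | ⟨a, ha, hl⟩
      · right
        refine ⟨a, by rw [ha], ?_⟩
        rcases abs_cases a with ⟨h1, h2⟩ | ⟨h1, h2⟩ <;>
          rcases abs_cases (2 * a - 1) with ⟨h3, h4⟩ | ⟨h3, h4⟩ <;> omega
      · left
        refine ⟨a, by rw [ha, ← mul_assoc, hs, one_mul], ?_⟩
        rcases abs_cases a with ⟨h1, h2⟩ | ⟨h1, h2⟩ <;>
          rcases abs_cases (2 * a - 1) with ⟨h3, h4⟩ | ⟨h3, h4⟩ <;> omega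
    · rcases ih' with ⟨a, ha, hl⟩ | ⟨a, ha, hl⟩
      · right
        refine ⟨a + 1, ?_, ?_⟩
        · have h5 : (s * x) ^ (a + 1) = s * x * (s * x) ^ a := by
            rw [add_comm, zpow_add, zpow_one]
          rw [ha, h5]
          calc x * (s * x) ^ a = (s * s) * x * (s * x) ^ a := by rw [hs, one_mul]
            _ = s * (s * x * (s * x) ^ a) := by simp only [mul_assoc]
        · rcases abs_cases a with ⟨h1, h2⟩ | ⟨h1, h2⟩ <;>
            rcases abs_cases (2 * (a + 1) - 1) with ⟨h3, h4⟩ | ⟨h3, h4⟩ <;> omega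
      · left
        refine ⟨a - 1, ?_, ?_⟩
        · have h5 : (s * x) ^ (a - 1) = x * s * (s * x) ^ a := by
            rw [sub_eq_add_neg, add_comm, zpow_add, zpow_neg_one, a1_inv_mul hs ht]
          rw [ha, h5, mul_assoc]
        · rcases abs_cases (a - 1) with ⟨h1, h2⟩ | ⟨h1, h2⟩ <;>
            rcases abs_cases (2 * a - 1) with ⟨h3, h4⟩ | ⟨h3, h4⟩ <;> omega

theorem a1_alt_even (i : ℕ) : alt s t (2 * i) = (s * t) ^ (i : ℤ) := by
  rw [a1_alt_two_mul, zpow_natCast]

theorem a1_alt_odd (hs : s * s = 1) (ht : t * t = 1) (i : ℕ) :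
    alt s t (2 * i + 1) = s * (s * t) ^ (-(i : ℤ)) := by
  rw [a1_alt_two_mul_add_one, ← a1_inv_mul hs ht, zpow_neg, zpow_natCast, inv_pow]

theorem a1_dvd_sub {a b : ℤ} (hab : (s * t) ^ a = (s * t) ^ b) :
    (orderOf (s * t) : ℤ) ∣ a - b := by
  rw [orderOf_dvd_iff_zpow_eq_one, zpow_sub, hab, mul_inv_cancel]

/-- a product of fewer than `k ≤ m` letters `s`, `t` is not `alt s t k` (no `s ≠ t` needed) -/
theorem a1_list_prod_ne_alt (hs : s * s = 1) (ht : t * t = 1) (hs1 : s ≠ 1) (ht1 : t ≠ 1)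
    {k : ℕ} (hk : k ≤ orderOf (s * t)) (L : List W) (hL : ∀ x ∈ L, x = s ∨ x = t)
    (hlen : L.length < k) : L.prod ≠ alt s t k := by
  intro h
  rcases Nat.even_or_odd' k with ⟨i, rfl | rfl⟩
  · rw [a1_alt_even] at h
    rcases a1_list_prod hs ht L hL with ⟨a, ha, hl⟩ | ⟨a, ha, hl⟩
    · rw [ha] at h
      have hd := a1_dvd_sub h
      have h0 : a - i = 0 := by
        apply Int.eq_zero_of_abs_lt_dvd hd
        rcases abs_cases a with ⟨h1, h2⟩ | ⟨h1, h2⟩ <;>
          rcases abs_cases (a - i) with ⟨h3, h4⟩ | ⟨h3, h4⟩ <;> omega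
      rcases abs_cases a with ⟨h1, h2⟩ | ⟨h1, h2⟩ <;> omega
    · rw [ha] at h
      refine a1_zpow_ne hs ht hs1 ht1 (i - a) ?_
      rw [zpow_sub, ← h]; group
  · rw [a1_alt_odd hs ht] at h
    rcases a1_list_prod hs ht L hL with ⟨a, ha, hl⟩ | ⟨a, ha, hl⟩
    · rw [ha] at h
      refine a1_zpow_ne hs ht hs1 ht1 (a + i) ?_
      rw [zpow_add, h]; group
    · rw [ha] at h
      have h' := mul_left_cancel h
      have hd := a1_dvd_sub h'
      have h0 : a - -(i : ℤ) = 0 := by
        apply Int.eq_zero_of_abs_lt_dvd hd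
        rcases abs_cases (2 * a - 1) with ⟨h1, h2⟩ | ⟨h1, h2⟩ <;>
          rcases abs_cases (a - -(i : ℤ)) with ⟨h3, h4⟩ | ⟨h3, h4⟩ <;> omega
      rcases abs_cases (2 * a - 1) with ⟨h1, h2⟩ | ⟨h1, h2⟩ <;> omega

/-- **A1**: a product of fewer than `k ≤ m` letters `s`, `t` is not `alt s t k`. -/
theorem list_prod_ne_alt (hs : s * s = 1) (ht : t * t = 1) (hs1 : s ≠ 1) (ht1 : t ≠ 1)
    (_hst : s ≠ t) {k : ℕ} (hk : k ≤ orderOf (s * t)) (L : List W)
    (hL : ∀ x ∈ L, x = s ∨ x = t) (hlen : L.length < k) : L.prod ≠ alt s t k :=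
  a1_list_prod_ne_alt hs ht hs1 ht1 hk L hL hlen

/-- **A1**, symmetric form: a product of fewer than `k ≤ m` letters is not `alt t s k`. -/
theorem list_prod_ne_alt' (hs : s * s = 1) (ht : t * t = 1) (hs1 : s ≠ 1) (ht1 : t ≠ 1)
    (_hst : s ≠ t) {k : ℕ} (hk : k ≤ orderOf (s * t)) (L : List W)
    (hL : ∀ x ∈ L, x = s ∨ x = t) (hlen : L.length < k) : L.prod ≠ alt t s k :=
  a1_list_prod_ne_alt ht hs ht1 hs1 (by rwa [a1_orderOf_swap hs ht]) L
    (fun x hx => (hL x hx).symm) hlen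

theorem a1_alt_ne_one (hs : s * s = 1) (ht : t * t = 1) (hs1 : s ≠ 1) (ht1 : t ≠ 1)
    {k : ℕ} (hk1 : 1 ≤ k) (hk : k ≤ orderOf (s * t)) : alt s t k ≠ 1 := by
  have h := a1_list_prod_ne_alt hs ht hs1 ht1 hk [] (by simp) (by simp; omega)
  intro h'
  exact h (by rw [h']; rfl)

theorem a1_alt_ne_one' (hs : s * s = 1) (ht : t * t = 1) (hs1 : s ≠ 1) (ht1 : t ≠ 1)
    {k : ℕ} (hk1 : 1 ≤ k) (hk : k ≤ orderOf (s * t)) : alt t s k ≠ 1 :=
  a1_alt_ne_one ht hs ht1 hs1 hk1 (by rwa [a1_orderOf_swap hs ht])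

/-- **A1**: the braid relation. -/
theorem alt_braid (hs : s * s = 1) (ht : t * t = 1) :
    alt s t (orderOf (s * t)) = alt t s (orderOf (s * t)) := by
  rcases Nat.even_or_odd' (orderOf (s * t)) with ⟨i, hi | hi⟩
  · rw [hi, a1_alt_two_mul, a1_alt_two_mul, ← a1_inv_mul hs ht, inv_pow]
    apply eq_inv_of_mul_eq_one_left
    rw [← pow_add, ← two_mul, ← hi, pow_orderOf_eq_one]
  · rw [hi, a1_alt_two_mul_add_one, a1_alt_two_mul_add_one, ← a1_inv_mul hs ht, inv_pow]
    have h1 : (s * t) ^ (2 * i + 1) = 1 := by rw [← hi, pow_orderOf_eq_one]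
    have h2 : (s * t) ^ (2 * i) = t * s := by
      rw [← a1_inv_mul hs ht]
      apply eq_inv_of_mul_eq_one_left
      rw [← pow_succ, h1]
    rw [mul_inv_eq_iff_eq_mul, mul_assoc, ← pow_add, ← two_mul, h2, ← mul_assoc, ht, one_mul]

/-- **A1**: the order of a finite group generated by two distinct involutions. -/
theorem dihedral_card [Finite W] (hs : s * s = 1) (ht : t * t = 1) (hs1 : s ≠ 1) (ht1 : t ≠ 1)
    (hst : s ≠ t) (hgen : Subgroup.closure {s, t} = ⊤) :
    Nat.card W = 2 * orderOf (s * t) ∧ 2 ≤ orderOf (s * t) := by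
  have hr1 : s * t ≠ 1 := by
    intro h
    exact hst (mul_right_cancel (b := t) (by rw [h, ht]))
  have hm0 : 0 < orderOf (s * t) := orderOf_pos _
  have hm1 : orderOf (s * t) ≠ 1 := fun h => hr1 (orderOf_eq_one_iff.mp h)
  refine ⟨?_, by omega⟩
  -- every element is `r ^ a` or `s * r ^ a`
  have hall : ∀ w : W, (∃ a : ℤ, w = (s * t) ^ a) ∨ (∃ a : ℤ, w = s * (s * t) ^ a) := by
    intro w
    have hw : w ∈ (Subgroup.closure {s, t}).toSubmonoid := by
      rw [hgen]; exact Subgroup.mem_top w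
    rw [Subgroup.closure_toSubmonoid] at hw
    obtain ⟨L, hL, rfl⟩ := Submonoid.exists_list_of_mem_closure hw
    have hL' : ∀ x ∈ L, x = s ∨ x = t := by
      intro x hx
      rcases hL x hx with h | h
      · simpa using h
      · have hx' : x = s⁻¹ ∨ x = t⁻¹ := by simpa using h
        rcases hx' with h | h
        · left
          rw [h]
          exact inv_eq_of_mul_eq_one_right hs
        · right
          rw [h]
          exact inv_eq_of_mul_eq_one_right ht
    rcases a1_list_prod hs ht L hL' with ⟨a, ha, -⟩ | ⟨a, ha, -⟩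
    · exact Or.inl ⟨a, ha⟩
    · exact Or.inr ⟨a, ha⟩
  have hidx : (Subgroup.zpowers (s * t)).index = 2 := by
    rw [Subgroup.index_eq_two_iff']
    refine ⟨s, fun b => ?_⟩
    rcases hall b with ⟨a, rfl⟩ | ⟨a, rfl⟩
    · refine Or.inr ⟨⟨a, rfl⟩, ?_⟩
      rintro ⟨c, hc⟩
      have hc' : (s * t) ^ c = s * (s * t) ^ a := hc
      refine a1_zpow_ne hs ht hs1 ht1 (c - a) ?_
      rw [zpow_sub, hc']; group
    · refine Or.inl ⟨?_, ?_⟩
      · refine ⟨a, ?_⟩
        show (s * t) ^ a = s * (s * (s * t) ^ a)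
        rw [← mul_assoc, hs, one_mul]
      · rintro ⟨c, hc⟩
        have hc' : (s * t) ^ c = s * (s * t) ^ a := hc
        refine a1_zpow_ne hs ht hs1 ht1 (c - a) ?_
        rw [zpow_sub, hc']; group
  have h := Subgroup.card_mul_index (Subgroup.zpowers (s * t))
  rw [hidx, Nat.card_zpowers] at h
  omega

end dihedral

end Cfsg.Agent.Lib.Helper57.FHA1
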