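import Mathlib
import Cfsg.Agent.Lib.Helper57.WieB
import Cfsg.Agent.Lib.Helper91.Wielandt
import Cfsg.Agent.Lib.Helper53.PGroups

/-!
# Wielandt's theorem: centralizers of elements of prime order in `A ⊓ N(B)`
-/

set_option autoImplicit false
set_option linter.style.haveILetI false

namespace Cfsg.Agent.Lib.Helper57.Wie

open scoped Pointwise

variable {G : Type*} [Group G] [Finite G] {A B : Subgroup G}

theorem Cfg.index_B (h : Cfg A B) : B.index = Nat.card A := by
  have h1 := Subgroup.card_mul_index B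
  rw [h.card_eq] at h1
  exact Nat.eq_of_mul_eq_mul_left Nat.card_pos (by rw [h1, mul_comm])

theorem Cfg.hall_B (h : Cfg A B) : (Nat.card B).Coprime B.index := by
  rw [h.index_B]; exact h.cop.symm

/-- Wielandt: a subgroup whose order involves only primes of `|B|` lies in a conjugate of `B` -/
theorem Cfg.exists_conj_le (h : Cfg A B) {K : Subgroup G}
    (hK : ∀ ℓ : ℕ, ℓ.Prime → ℓ ∣ Nat.card K → ℓ ∣ Nat.card B) :
    ∃ x : G, ∀ k ∈ K, x⁻¹ * k * x ∈ B := by
  obtain ⟨x, hx⟩ := Cfsg.Agent.Lib.Helper91.wielandt B K h.nilB h.hall_B hK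
  refine ⟨x, fun k hk => ?_⟩
  have h1 := hx hk
  rw [Subgroup.mem_pointwise_smul_iff_inv_smul_mem, MulAut.smul_def, ← map_inv,
    MulAut.conj_apply, inv_inv] at h1
  exact h1

/-- a subgroup whose order involves only primes of `|B|`, normalized by a conjugate of a
nontrivial central element of `A`, is trivial -/
theorem MinCex.eq_bot_of_pi' (h : MinCex A B) {z : G} (hz : Cen A z) (g : G) {K : Subgroup G}
    (hK : ∀ ℓ : ℕ, ℓ.Prime → ℓ ∣ Nat.card K → ℓ ∣ Nat.card B)
    (hn : g * z * g⁻¹ ∈ Subgroup.normalizer (K : Set G)) : K = ⊥ := by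
  obtain ⟨x, hx⟩ := h.cfg.exists_conj_le hK
  obtain ⟨z', hz'⟩ := h.symm.exists_cen
  have h1 : x * z' * x⁻¹ ∈ Subgroup.normalizer (K : Set G) := by
    apply mem_normalizer_of_conj_mem
    intro k hk
    have h2 : Commute (x⁻¹ * k * x) z' := hz'.2.2 _ (hx k hk)
    have e : x * z' * x⁻¹ * k * (x * z' * x⁻¹)⁻¹ = k := by
      have h3 := h2.eq
      calc x * z' * x⁻¹ * k * (x * z' * x⁻¹)⁻¹
          = x * (z' * (x⁻¹ * k * x)) * z'⁻¹ * x⁻¹ := by group
        _ = x * (x⁻¹ * k * x * z') * z'⁻¹ * x⁻¹ := by rw [h3]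
        _ = k := by group
    rw [e]; exact hk
  have hT := h.gen_conj_cen hz hz' g x hn h1
  rcases h.eq_bot_or_top_of_normalizer hT with h4 | h4
  · exact h4
  · exfalso
    obtain ⟨r, hr, -, hrA⟩ := h.exists_prime_ne 0
    have h5 : r ∣ Nat.card K := by
      rw [h4, Subgroup.card_top, h.cfg.card_eq]; exact hrA.mul_right _
    have h6 := hK r hr h5
    exact hr.one_lt.ne' (Nat.eq_one_of_dvd_coprimes h.cfg.cop hrA h6)

/-- the centralizer of an element of prime order of `A ⊓ N(B)` normalizes `A` -/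
theorem MinCex.centralizer_prime_le (h : MinCex A B) {x : G} (hxA : x ∈ A)
    (hxN : x ∈ Subgroup.normalizer (B : Set G)) {p : ℕ} (hp : p.Prime) (hxo : orderOf x = p)
    {c : G} (hc : Commute c x) : c ∈ Subgroup.normalizer (A : Set G) := by
  have hmemC : ∀ g, g ∈ Subgroup.centralizer ({x} : Set G) ↔ Commute g x := fun g => by
    rw [Subgroup.mem_centralizer_iff]
    constructor
    · intro hh; exact (hh x rfl).symm
    · intro hh y hy; rw [Set.mem_singleton_iff] at hy; subst hy; exact hh.eq.symm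
  have hx1 : x ≠ 1 := by
    rintro rfl; rw [orderOf_one] at hxo; exact hp.one_lt.ne hxo
  have hfac : Fac A B (Subgroup.centralizer ({x} : Set G)) := by
    intro s hs
    obtain ⟨a, ha, b, hb, e⟩ := h.cfg.fact s
    have hsx : Commute s x := (hmemC s).1 hs
    have e1 : a⁻¹ * x * a * x⁻¹ = b * x * b⁻¹ * x⁻¹ := by
      have h1 := hsx.eq
      rw [e] at h1
      have h2 : a⁻¹ * x * a = b * x * b⁻¹ := by
        calc a⁻¹ * x * a = a⁻¹ * (x * (a * b)) * b⁻¹ := by group
          _ = a⁻¹ * (a * b * x) * b⁻¹ := by rw [h1]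
          _ = b * x * b⁻¹ := by group
      rw [h2]
    have h3 : a⁻¹ * x * a * x⁻¹ ∈ A :=
      A.mul_mem (A.mul_mem (A.mul_mem (A.inv_mem ha) hxA) ha) (A.inv_mem hxA)
    have h4 : b * x * b⁻¹ * x⁻¹ ∈ B := by
      have h41 : x * b⁻¹ * x⁻¹ ∈ B := conj_mem_of_mem_normalizer hxN (B.inv_mem hb)
      have e2 : b * x * b⁻¹ * x⁻¹ = b * (x * b⁻¹ * x⁻¹) := by group
      rw [e2]; exact B.mul_mem hb h41
    have h5 : a⁻¹ * x * a * x⁻¹ = 1 := h.cfg.eq_one_of_mem h3 (e1 ▸ h4)
    have h6 : b * x * b⁻¹ * x⁻¹ = 1 := e1 ▸ h5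
    have ha' : Commute a x := by
      show a * x = x * a
      have e3 : x * a = a * (a⁻¹ * x * a * x⁻¹) * x := by group
      rw [e3, h5, mul_one]
    have hb' : Commute b x := by
      show b * x = x * b
      have e3 : b * x = (b * x * b⁻¹ * x⁻¹) * x * b := by group
      rw [e3, h6, one_mul]
    exact ⟨a, ⟨ha, (hmemC a).2 ha'⟩, b, ⟨hb, (hmemC b).2 hb'⟩, e⟩
  have hCtop : Subgroup.centralizer ({x} : Set G) ≠ ⊤ := by
    intro hh
    apply hx1
    apply h.center_trivial
    intro y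
    exact (hmemC y).1 (by rw [hh]; trivial)
  obtain ⟨r, hr, hrp, hrA⟩ := h.exists_prime_ne p
  obtain ⟨zr, hzr, hzrS⟩ := h.exists_cen_sylG hr hrA
  have hxS : x ∈ sylG A p :=
    mem_sylG_of_orderOf h.cfg.nilA hp hxA (k := 1) (by rw [hxo, pow_one])
  have hRC : sylG A r ≤ Subgroup.centralizer ({x} : Set G) := fun y hy =>
    (hmemC y).2 (commute_sylG h.cfg.nilA hr hp hrp hy hxS)
  have hnilAC : Group.IsNilpotent (A ⊓ Subgroup.centralizer ({x} : Set G) : Subgroup G) :=
    nil_of_le h.cfg.nilA inf_le_left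
  have hRP : sylG A r ≤ sylG (A ⊓ Subgroup.centralizer ({x} : Set G)) r :=
    le_sylG hnilAC hr (le_inf (sylG_le A r) hRC) (sylG_isPGroup A r)
  have hPR : sylG (A ⊓ Subgroup.centralizer ({x} : Set G)) r ≤ sylG A r :=
    le_sylG h.cfg.nilA hr ((sylG_le _ _).trans inf_le_left) (sylG_isPGroup _ _)
  have hBC : B ⊓ Subgroup.centralizer ({x} : Set G) ≤ Subgroup.normalizer (A : Set G) := by
    apply le_of_sylG_le
    intro q hq
    by_cases hQ0 : sylG (B ⊓ Subgroup.centralizer ({x} : Set G)) q = ⊥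
    · rw [hQ0]; exact bot_le
    have hqB : q ∣ Nat.card B :=
      (dvd_card_of_pgroup_ne_bot hq (sylG_isPGroup _ _) hQ0).trans
        (Subgroup.card_dvd_of_le ((sylG_le _ _).trans inf_le_left))
    have hrq : r ≠ q := by
      rintro rfl
      exact hr.one_lt.ne' (Nat.eq_one_of_dvd_coprimes h.cfg.cop hrA hqB)
    obtain ⟨D, hD, hDC, hDs⟩ := h.exists_prod_sylG hCtop hfac hr hq
    have hPD : sylG (A ⊓ Subgroup.centralizer ({x} : Set G)) r ≤ D := by
      intro y hy
      have h1 : y ∈ (D : Set G) := by rw [hD]; exact ⟨y, hy, 1, Subgroup.one_mem _, mul_one y⟩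
      exact h1
    have hQD : sylG (B ⊓ Subgroup.centralizer ({x} : Set G)) q ≤ D := by
      intro y hy
      have h1 : y ∈ (D : Set G) := by rw [hD]; exact ⟨1, Subgroup.one_mem _, y, hy, one_mul y⟩
      exact h1
    have hD0 : D ≠ ⊥ := fun hh => hQ0 (eq_bot_iff.2 (hh ▸ hQD))
    obtain ⟨W, hW0, hDW, hW⟩ := exists_normal_pq hD hDs hD0 hr hq hrq (sylG_isPGroup _ _)
      (sylG_isPGroup _ _)
    rcases hW with ⟨hWP, hWr⟩ | ⟨hWQ, hWq⟩
    · have hWR : W ≤ sylG A r := hWP.trans hPR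
      have hRW : sylG A r ≤ Subgroup.normalizer (W : Set G) := (hRP.trans hPD).trans hDW
      haveI := Fact.mk hr
      obtain ⟨w, hwW, hw1, hwc⟩ :=
        Cfsg.Agent.Lib.Helper53.exists_mem_center_of_normal_subgroup (sylG_isPGroup A r) hWR hRW
          hW0
      have hwcen : Cen A w := ⟨sylG_le A r (hWR hwW), hw1,
        central_of_sylG h.cfg.nilA hr (hWR hwW) (fun y hy => hwc y hy)⟩
      intro y hy
      apply h.mem_normalizer_of_conj_cen hwcen
      exact sylG_le A r (hWR (conj_mem_of_mem_normalizer (hDW (hQD hy)) hwW))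
    · exfalso
      apply hW0
      apply h.eq_bot_of_pi' hzr 1 (K := W)
      · intro ℓ _ hℓW
        exact hℓW.trans (Subgroup.card_dvd_of_le (hWQ.trans ((sylG_le _ _).trans inf_le_left)))
      · have h1 : zr ∈ Subgroup.normalizer (W : Set G) := hDW (hPD (hRP hzrS))
        simpa using h1
  obtain ⟨a, ha, b, hb, e⟩ := hfac c ((hmemC c).2 hc)
  rw [e]
  exact Subgroup.mul_mem _ (Subgroup.le_normalizer ha.1) (hBC hb)

end Cfsg.Agent.Lib.Helper57.Wie
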