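import Mathlib
import Cfsg.Agent.Lib.Helper57.WieC
import Cfsg.Agent.S0558

/-!
# Wielandt's theorem: centralizers of elements of `A`, and the TI property
-/

set_option autoImplicit false
set_option linter.style.haveILetI false

namespace Cfsg.Agent.Lib.Helper57.Wie

open scoped Pointwise

variable {G : Type*} [Group G] [Finite G] {A B : Subgroup G}

/-- a subgroup containing the nontrivial central elements of `A` and meeting the normalizer of
`A` inside `A` lies in `A` (Frobenius-type transfer via S0558) -/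
theorem MinCex.le_of_cen_le (h : MinCex A B) {C : Subgroup G} (hcen : ∀ z, Cen A z → z ∈ C)
    (hcase : ∀ m ∈ C, m ∈ Subgroup.normalizer (A : Set G) → m ∈ A) : C ≤ A := by
  have hnilH : Group.IsNilpotent (A.subgroupOf C) := by
    rw [← Subgroup.inf_subgroupOf_right]
    haveI := nil_of_le h.cfg.nilA (inf_le_left : A ⊓ C ≤ A)
    exact Group.nilpotent_of_mulEquiv
      (Subgroup.subgroupOfEquivOfLe (inf_le_right : A ⊓ C ≤ C)).symm
  have hcardH : Nat.card (A.subgroupOf C) ∣ Nat.card A := by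
    rw [← Subgroup.inf_subgroupOf_right,
      Nat.card_congr (Subgroup.subgroupOfEquivOfLe (inf_le_right : A ⊓ C ≤ C)).toEquiv]
    exact Subgroup.card_dvd_of_le inf_le_left
  obtain ⟨K', hK'n, hK'c⟩ := Cfsg.Agent.S0558.result (G := C) (A.subgroupOf C)
    (by
      intro p' hp' P hP
      obtain ⟨r, hr, hrp, hrA⟩ := h.exists_prime_ne p'
      obtain ⟨zr, hzr, hzrS⟩ := h.exists_cen_sylG hr hrA
      have h1 : (⟨zr, hcen zr hzr⟩ : C) ∈ (P : Subgroup C) := by
        rw [hP]; exact Subgroup.mem_subgroupOf.2 hzr.1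
      obtain ⟨k, hk⟩ := orderOf_of_mem_pgroup hp' P.isPGroup' h1
      rw [Subgroup.orderOf_mk] at hk
      obtain ⟨j, hj⟩ := orderOf_of_mem_pgroup hr (sylG_isPGroup A r) hzrS
      have h2 : orderOf zr = 1 :=
        Nat.eq_one_of_dvd_coprimes
          (Nat.Coprime.pow k j ((Nat.coprime_primes hp' hr).2 (Ne.symm hrp)))
          (hk ▸ dvd_rfl) (hj ▸ dvd_rfl)
      exact hzr.2.1 (orderOf_eq_one_iff.1 h2))
    (by
      intro p' hp' hdvd P
      haveI := Fact.mk hp'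
      have hp'A : p' ∣ Nat.card A := hdvd.trans hcardH
      obtain ⟨z, hz, hzS⟩ := h.exists_cen_sylG hp' hp'A
      obtain ⟨k, hk⟩ := orderOf_of_mem_pgroup hp' (sylG_isPGroup A p') hzS
      have hzH : (⟨z, hcen z hz⟩ : C) ∈ A.subgroupOf C := Subgroup.mem_subgroupOf.2 hz.1
      have hzP : (⟨⟨z, hcen z hz⟩, hzH⟩ : A.subgroupOf C) ∈ (P : Subgroup (A.subgroupOf C)) := by
        have h1 : IsPGroup p' (Subgroup.zpowers (⟨⟨z, hcen z hz⟩, hzH⟩ : A.subgroupOf C)) :=
          IsPGroup.of_card (n := k)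
            (by rw [Nat.card_zpowers, Subgroup.orderOf_mk, Subgroup.orderOf_mk, hk])
        exact le_sylow_of_nilpotent P h1 (Subgroup.mem_zpowers _)
      have hn0 : ∀ (q : ℕ), Fact (Nat.Prime q) → ∀ (Q : Sylow q (A.subgroupOf C)),
          (Q : Subgroup (A.subgroupOf C)).Normal :=
        ((Group.isNilpotent_of_finite_tfae (G := A.subgroupOf C)).out 0 3).1 hnilH
      have hPn : (P : Subgroup (A.subgroupOf C)).Normal := hn0 p' inferInstance P
      apply le_antisymm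
      · intro n hn
        have h1 : n * ⟨z, hcen z hz⟩ * n⁻¹ ∈
            (P : Subgroup (A.subgroupOf C)).map (A.subgroupOf C).subtype :=
          conj_mem_of_mem_normalizer hn (Subgroup.mem_map.2 ⟨⟨⟨z, hcen z hz⟩, hzH⟩, hzP, rfl⟩)
        obtain ⟨w, -, hw⟩ := Subgroup.mem_map.1 h1
        have h2 : (n * ⟨z, hcen z hz⟩ * n⁻¹ : C) ∈ A.subgroupOf C := by
          rw [← hw]; exact w.2
        have h3 : n.1 * z * n.1⁻¹ ∈ A := Subgroup.mem_subgroupOf.1 h2
        have h4 : n.1 ∈ Subgroup.normalizer (A : Set G) := h.mem_normalizer_of_conj_cen hz h3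
        exact Subgroup.mem_subgroupOf.2 (hcase n.1 n.2 h4)
      · have h1 := Subgroup.le_normalizer_map (H := (P : Subgroup (A.subgroupOf C)))
          (A.subgroupOf C).subtype
        rw [Subgroup.normalizer_eq_top_iff.2 hPn, ← MonoidHom.range_eq_map,
          Subgroup.range_subtype] at h1
        exact h1)
  have hK0 : K'.map C.subtype = ⊥ := by
    obtain ⟨z, hz⟩ := h.exists_cen
    apply h.eq_bot_of_pi' hz 1
    · intro ℓ hℓ hℓK
      have hℓK' : ℓ ∣ Nat.card K' := by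
        rwa [← Nat.card_congr
          (Subgroup.equivMapOfInjective K' C.subtype C.subtype_injective).toEquiv] at hℓK
      by_contra hℓB
      have hℓG : ℓ ∣ Nat.card A * Nat.card B := by
        rw [← h.cfg.card_eq]; exact hℓK.trans (Subgroup.card_subgroup_dvd_card _)
      have hℓA : ℓ ∣ Nat.card A := ((Nat.Prime.dvd_mul hℓ).1 hℓG).resolve_right hℓB
      haveI := Fact.mk hℓ
      obtain ⟨k', hk'o⟩ := exists_prime_orderOf_dvd_card' (G := K') ℓ hℓK'
      obtain ⟨zℓ, hzℓ, hzℓS⟩ := h.exists_cen_sylG hℓ hℓA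
      obtain ⟨j, hj⟩ := orderOf_of_mem_pgroup hℓ (sylG_isPGroup A ℓ) hzℓS
      have hpz : IsPGroup ℓ (Subgroup.zpowers (⟨zℓ, hcen zℓ hzℓ⟩ : C)) :=
        IsPGroup.of_card (n := j) (by rw [Nat.card_zpowers, Subgroup.orderOf_mk, hj])
      obtain ⟨L, hL⟩ := hpz.exists_le_sylow
      have hpk : IsPGroup ℓ (Subgroup.zpowers (k'.1 : C)) :=
        IsPGroup.of_card (n := 1)
          (by rw [Nat.card_zpowers, Subgroup.orderOf_coe, hk'o, pow_one])
      obtain ⟨L₂, hL₂⟩ := hpk.exists_le_sylow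
      obtain ⟨c₀, hc₀⟩ := MulAction.exists_smul_eq C L₂ L
      have hkL : c₀ * k'.1 * c₀⁻¹ ∈ (L : Subgroup C) := by
        have h1 : MulAut.conj c₀ • (k'.1 : C) ∈ MulAut.conj c₀ • (L₂ : Subgroup C) :=
          Subgroup.smul_mem_pointwise_smul _ _ _ (hL₂ (Subgroup.mem_zpowers _))
        rw [← Sylow.coe_subgroup_smul, hc₀] at h1
        simpa [MulAut.smul_def] using h1
      have hLA : ∀ l ∈ (L : Subgroup C), (l : G) ∈ A := by
        obtain ⟨x, hx⟩ := h.symm.cfg.exists_conj_le (K := (L : Subgroup C).map C.subtype) (by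
          intro ℓ' hℓ' hd
          rw [← Nat.card_congr
            (Subgroup.equivMapOfInjective _ C.subtype C.subtype_injective).toEquiv] at hd
          obtain ⟨i, hi⟩ := IsPGroup.iff_card.1 L.isPGroup'
          rw [hi] at hd
          rw [(Nat.prime_dvd_prime_iff_eq hℓ' hℓ).1 (hℓ'.dvd_of_dvd_pow hd)]; exact hℓA)
        have hzL : zℓ ∈ (L : Subgroup C).map C.subtype :=
          Subgroup.mem_map.2 ⟨⟨zℓ, hcen zℓ hzℓ⟩, hL (Subgroup.mem_zpowers _), rfl⟩
        have hxN : x ∈ Subgroup.normalizer (A : Set G) :=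
          h.mem_normalizer_of_conj_cen' hzℓ (hx zℓ hzL)
        intro l hl
        have h1 : x⁻¹ * (l : G) * x ∈ A := hx l (Subgroup.mem_map.2 ⟨l, hl, rfl⟩)
        have h2 := conj_mem_of_mem_normalizer hxN h1
        have e : x * (x⁻¹ * (l : G) * x) * x⁻¹ = l := by group
        rwa [e] at h2
      have h1 : c₀ * k'.1 * c₀⁻¹ ∈ K' := hK'n.conj_mem _ k'.2 c₀
      have h2 : c₀ * k'.1 * c₀⁻¹ ∈ A.subgroupOf C := Subgroup.mem_subgroupOf.2 (hLA _ hkL)
      have h3 : c₀ * k'.1 * c₀⁻¹ = 1 := by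
        have h4 : c₀ * k'.1 * c₀⁻¹ ∈ K' ⊓ A.subgroupOf C := ⟨h1, h2⟩
        rw [hK'c.disjoint.eq_bot] at h4
        exact Subgroup.mem_bot.1 h4
      have h5 : (k'.1 : C) = 1 := conj_eq_one_iff.1 h3
      have h6 : orderOf k' = 1 := by
        rw [orderOf_eq_one_iff]; exact Subtype.ext h5
      rw [hk'o] at h6
      exact hℓ.one_lt.ne' h6
    · have h1 : z ∈ Subgroup.normalizer ((K'.map C.subtype : Subgroup G) : Set G) := by
        apply mem_normalizer_of_conj_mem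
        intro a ha
        obtain ⟨k, hk, rfl⟩ := Subgroup.mem_map.1 ha
        exact Subgroup.mem_map.2 ⟨⟨z, hcen z hz⟩ * k * ⟨z, hcen z hz⟩⁻¹,
          hK'n.conj_mem k hk ⟨z, hcen z hz⟩, by simp⟩
      simpa using h1
  have hK'0 : K' = ⊥ := (Subgroup.map_eq_bot_iff_of_injective K' C.subtype_injective).1 hK0
  rw [hK'0, Subgroup.isComplement'_bot_left] at hK'c
  intro c hc
  have h1 : (⟨c, hc⟩ : C) ∈ A.subgroupOf C := by rw [hK'c]; trivial
  exact Subgroup.mem_subgroupOf.1 h1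

/-- the centralizer of an element of prime order of `A` normalizes `A` -/
theorem MinCex.centralizer_le_of_prime (h : MinCex A B) {d : G} (hdA : d ∈ A) {p : ℕ}
    (hp : p.Prime) (hdo : orderOf d = p) {c : G} (hc : Commute c d) :
    c ∈ Subgroup.normalizer (A : Set G) := by
  have hmemC : ∀ g, g ∈ Subgroup.centralizer ({d} : Set G) ↔ Commute g d := fun g => by
    rw [Subgroup.mem_centralizer_iff]
    constructor
    · intro hh; exact (hh d rfl).symm
    · intro hh y hy; rw [Set.mem_singleton_iff] at hy; subst hy; exact hh.eq.symm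
  by_cases hcase : ∀ m, Commute m d → m ∈ Subgroup.normalizer (A : Set G) → m ∈ A
  · have h1 := h.le_of_cen_le (C := Subgroup.centralizer ({d} : Set G))
      (fun z hz => (hmemC z).2 (hz.2.2 d hdA).symm)
      (fun m hm => hcase m ((hmemC m).1 hm))
    exact Subgroup.le_normalizer (h1 ((hmemC c).2 hc))
  · push Not at hcase
    obtain ⟨m, hmd, hmN, hmA⟩ := hcase
    have hnc : ¬ (orderOf m).Coprime (Nat.card B) := fun hco =>
      hmA (h.cfg.mem_of_mem_normalizer hmN hco)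
    obtain ⟨q, hq, hqm, hqB⟩ := Nat.Prime.not_coprime_iff_dvd.1 hnc
    have hm₁o : orderOf (m ^ (orderOf m / q)) = q :=
      orderOf_pow_orderOf_div (orderOf_pos m).ne' hqm
    have hm₁d : Commute (m ^ (orderOf m / q)) d := hmd.pow_left _
    have hm₁N : m ^ (orderOf m / q) ∈ Subgroup.normalizer (A : Set G) :=
      Subgroup.pow_mem _ hmN _
    generalize m ^ (orderOf m / q) = m₁ at hm₁o hm₁d hm₁N
    obtain ⟨x, hx⟩ := h.cfg.exists_conj_le (K := Subgroup.zpowers m₁) (by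
      intro ℓ hℓ hℓd
      rw [Nat.card_zpowers, hm₁o] at hℓd
      rw [(Nat.prime_dvd_prime_iff_eq hℓ hq).1 hℓd]; exact hqB)
    have hxm : x⁻¹ * m₁ * x ∈ B := hx m₁ (Subgroup.mem_zpowers m₁)
    obtain ⟨a₀, ha₀, b₀, hb₀, rfl⟩ := h.cfg.fact x
    have hy : a₀⁻¹ * m₁ * a₀ ∈ B := by
      have e : a₀⁻¹ * m₁ * a₀ = b₀ * ((a₀ * b₀)⁻¹ * m₁ * (a₀ * b₀)) * b₀⁻¹ := by group
      rw [e]; exact B.mul_mem (B.mul_mem hb₀ hxm) (B.inv_mem hb₀)
    have hyN : a₀⁻¹ * m₁ * a₀ ∈ Subgroup.normalizer (A : Set G) :=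
      Subgroup.mul_mem _ (Subgroup.mul_mem _ (Subgroup.inv_mem _ (Subgroup.le_normalizer ha₀))
        hm₁N) (Subgroup.le_normalizer ha₀)
    have hyo : orderOf (a₀⁻¹ * m₁ * a₀) = q := by rw [orderOf_conj_eq', hm₁o]
    have hx'A : a₀⁻¹ * d * a₀ ∈ A := A.mul_mem (A.mul_mem (A.inv_mem ha₀) hdA) ha₀
    have hx'o : orderOf (a₀⁻¹ * d * a₀) = p := by rw [orderOf_conj_eq', hdo]
    have hx'y : Commute (a₀⁻¹ * d * a₀) (a₀⁻¹ * m₁ * a₀) := by
      show a₀⁻¹ * d * a₀ * (a₀⁻¹ * m₁ * a₀) = a₀⁻¹ * m₁ * a₀ * (a₀⁻¹ * d * a₀)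
      have h3 := hm₁d.eq
      calc a₀⁻¹ * d * a₀ * (a₀⁻¹ * m₁ * a₀) = a₀⁻¹ * (d * m₁) * a₀ := by group
        _ = a₀⁻¹ * (m₁ * d) * a₀ := by rw [h3]
        _ = a₀⁻¹ * m₁ * a₀ * (a₀⁻¹ * d * a₀) := by group
    have hx'N : a₀⁻¹ * d * a₀ ∈ Subgroup.normalizer (B : Set G) :=
      h.symm.centralizer_prime_le hy hyN hq hyo hx'y
    have hc' : Commute (a₀⁻¹ * c * a₀) (a₀⁻¹ * d * a₀) := by
      show a₀⁻¹ * c * a₀ * (a₀⁻¹ * d * a₀) = a₀⁻¹ * d * a₀ * (a₀⁻¹ * c * a₀)
      have h3 := hc.eq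
      calc a₀⁻¹ * c * a₀ * (a₀⁻¹ * d * a₀) = a₀⁻¹ * (c * d) * a₀ := by group
        _ = a₀⁻¹ * (d * c) * a₀ := by rw [h3]
        _ = a₀⁻¹ * d * a₀ * (a₀⁻¹ * c * a₀) := by group
    have h1 := h.centralizer_prime_le hx'A hx'N hp hx'o hc'
    have e : c = a₀ * (a₀⁻¹ * c * a₀) * a₀⁻¹ := by group
    rw [e]
    exact Subgroup.mul_mem _ (Subgroup.mul_mem _ (Subgroup.le_normalizer ha₀) h1)
      (Subgroup.inv_mem _ (Subgroup.le_normalizer ha₀))

/-- the centralizer of a nontrivial element of `A` normalizes `A` -/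
theorem MinCex.centralizer_le (h : MinCex A B) {d : G} (hdA : d ∈ A) (hd1 : d ≠ 1) {c : G}
    (hc : Commute c d) : c ∈ Subgroup.normalizer (A : Set G) := by
  have h1 : orderOf d ≠ 1 := fun hh => hd1 (orderOf_eq_one_iff.1 hh)
  obtain ⟨p, hp, hpd⟩ := Nat.exists_prime_and_dvd h1
  exact h.centralizer_le_of_prime (A.pow_mem hdA (orderOf d / p)) hp
    (orderOf_pow_orderOf_div (orderOf_pos d).ne' hpd) (hc.pow_right _)

/-- `A` is a TI-subgroup -/
theorem MinCex.ti (h : MinCex A B) {u g : G} (hu : u ∈ A) (hu1 : u ≠ 1)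
    (hug : g⁻¹ * u * g ∈ A) : g ∈ Subgroup.normalizer (A : Set G) := by
  obtain ⟨z, hz⟩ := h.exists_cen
  have h1 : Commute (g * z * g⁻¹) u := by
    have h2 : Commute (g⁻¹ * u * g) z := hz.2.2 _ hug
    show g * z * g⁻¹ * u = u * (g * z * g⁻¹)
    have h3 := h2.eq
    calc g * z * g⁻¹ * u = g * (z * (g⁻¹ * u * g)) * g⁻¹ := by group
      _ = g * (g⁻¹ * u * g * z) * g⁻¹ := by rw [h3]
      _ = u * (g * z * g⁻¹) := by group
  have h4 : g * z * g⁻¹ ∈ Subgroup.normalizer (A : Set G) := h.centralizer_le hu hu1 h1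
  have h5 : g * z * g⁻¹ ∈ A := by
    apply h.cfg.mem_of_mem_normalizer h4
    rw [orderOf_conj_eq]
    exact Nat.Coprime.coprime_dvd_left (Subgroup.orderOf_dvd_natCard A hz.1) h.cfg.cop
  exact h.mem_normalizer_of_conj_cen hz h5

end Cfsg.Agent.Lib.Helper57.Wie
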