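import Mathlib
import Cfsg.Agent.Lib.Helper57.WieD

/-!
# Wielandt's theorem: the counting argument
-/

set_option autoImplicit false
set_option linter.style.haveILetI false

namespace Cfsg.Agent.Lib.Helper57.Wie

open scoped Pointwise

variable {G : Type*} [Group G] [Finite G] {A B : Subgroup G}

/-- the union of the conjugates of a set -/
def conjSet (S : Set G) : Set G := {w | ∃ g : G, ∃ s ∈ S, w = g * s * g⁻¹}

/-- if `g S g⁻¹` meets `S` only for `g ∈ M`, the conjugates of `S` cover many elements -/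
theorem card_mul_le_of_ti (M : Subgroup G) (S : Set G)
    (hS : ∀ g : G, ∀ s ∈ S, g * s * g⁻¹ ∈ S → g ∈ M) :
    Nat.card G * S.ncard ≤ (conjSet S).ncard * Nat.card M := by
  have hex : ∀ w : G, ∃ g : G, w ∈ conjSet S → g⁻¹ * w * g ∈ S := by
    intro w
    by_cases hw : w ∈ conjSet S
    · obtain ⟨g, s, hs, e⟩ := hw
      refine ⟨g, fun _ => ?_⟩
      have e2 : g⁻¹ * w * g = s := by rw [e]; group
      rw [e2]; exact hs
    · exact ⟨1, fun hh => absurd hh hw⟩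
  choose rep hrep using hex
  have hmem : ∀ x : G × S, x.1 * x.2.1 * x.1⁻¹ ∈ conjSet S := fun x =>
    ⟨x.1, x.2.1, x.2.2, rfl⟩
  have hmemM : ∀ x : G × S, (rep (x.1 * x.2.1 * x.1⁻¹))⁻¹ * x.1 ∈ M := by
    intro x
    apply hS _ x.2.1 x.2.2
    have h1 := hrep _ (hmem x)
    have e : (rep (x.1 * x.2.1 * x.1⁻¹))⁻¹ * x.1 * x.2.1 *
        ((rep (x.1 * x.2.1 * x.1⁻¹))⁻¹ * x.1)⁻¹ =
        (rep (x.1 * x.2.1 * x.1⁻¹))⁻¹ * (x.1 * x.2.1 * x.1⁻¹) *
          rep (x.1 * x.2.1 * x.1⁻¹) := by group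
    rw [e]; exact h1
  let f : G × S → conjSet S × M := fun x =>
    (⟨x.1 * x.2.1 * x.1⁻¹, hmem x⟩, ⟨(rep (x.1 * x.2.1 * x.1⁻¹))⁻¹ * x.1, hmemM x⟩)
  have hf : Function.Injective f := by
    rintro ⟨g₁, s₁⟩ ⟨g₂, s₂⟩ heq
    have h1 : g₁ * s₁.1 * g₁⁻¹ = g₂ * s₂.1 * g₂⁻¹ := congrArg (fun y => (y.1 : G)) heq
    have h2 : (rep (g₁ * s₁.1 * g₁⁻¹))⁻¹ * g₁ = (rep (g₂ * s₂.1 * g₂⁻¹))⁻¹ * g₂ :=
      congrArg (fun y => (y.2 : G)) heq
    rw [h1] at h2
    have h3 : g₁ = g₂ := mul_left_cancel h2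
    subst h3
    have h4 : s₁.1 = s₂.1 := mul_left_cancel (mul_right_cancel h1)
    have h5 : s₁ = s₂ := Subtype.ext h4
    rw [h5]
  have h1 := Nat.card_le_card_of_injective f hf
  rw [Nat.card_prod, Nat.card_prod, Nat.card_coe_set_eq, Nat.card_coe_set_eq] at h1
  exact h1

omit [Finite G] in
theorem pow_eq_one_of_coprime {a b : ℕ} (hab : a.Coprime b) {w : G} (h1 : w ^ a = 1)
    (h2 : w ^ b = 1) : w = 1 :=
  orderOf_eq_one_iff.1 (Nat.eq_one_of_dvd_coprimes hab (orderOf_dvd_of_pow_eq_one h1)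
    (orderOf_dvd_of_pow_eq_one h2))

omit [Finite G] in
theorem pow_card_of_mem {H : Subgroup G} {x : G} (hx : x ∈ H) : x ^ Nat.card H = 1 :=
  orderOf_dvd_iff_pow_eq_one.1 (Subgroup.orderOf_dvd_natCard H hx)

/-- `A ⊓ N(B)` -/
abbrev XX (A B : Subgroup G) : Subgroup G := A ⊓ Subgroup.normalizer (B : Set G)

/-- the nonidentity elements of a subgroup -/
def ns (H : Subgroup G) : Set G := (H : Set G) \ {1}

omit [Finite G] in
theorem mem_ns {H : Subgroup G} {s : G} : s ∈ ns H ↔ s ∈ H ∧ s ≠ 1 := by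
  unfold ns
  rw [Set.mem_sdiff, Set.mem_singleton_iff]
  rfl

theorem ncard_ns (H : Subgroup G) : (ns H).ncard + 1 = Nat.card H := by
  unfold ns
  rw [Set.ncard_sdiff_singleton_add_one (H.one_mem)]
  exact (Nat.card_coe_set_eq (H : Set G)).symm

omit [Finite G] in
theorem MinCex.commute_XY (h : MinCex A B) {x y : G} (hx : x ∈ XX A B) (hy : y ∈ XX B A) :
    Commute x y := by
  have h1 : x * y * x⁻¹ * y⁻¹ ∈ A := by
    have h0 : y * x⁻¹ * y⁻¹ ∈ A := conj_mem_of_mem_normalizer hy.2 (A.inv_mem hx.1)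
    have e : x * y * x⁻¹ * y⁻¹ = x * (y * x⁻¹ * y⁻¹) := by group
    rw [e]; exact A.mul_mem hx.1 h0
  have h2 : x * y * x⁻¹ * y⁻¹ ∈ B :=
    B.mul_mem (conj_mem_of_mem_normalizer hx.2 hy.1) (B.inv_mem hy.1)
  have h3 := h.cfg.eq_one_of_mem h1 h2
  show x * y = y * x
  have e : x * y = (x * y * x⁻¹ * y⁻¹) * y * x := by group
  rw [e, h3, one_mul]

theorem MinCex.count_A (h : MinCex A B) :
    Nat.card B * (ns A).ncard ≤ (conjSet (ns A)).ncard * Nat.card (XX B A) := by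
  have hMA : Nat.card (Subgroup.normalizer (A : Set G)) = Nat.card A * Nat.card (XX B A) := by
    have h1 := h.cfg.card_fac (h.cfg.fac_of_le Subgroup.le_normalizer)
    rwa [inf_of_le_left Subgroup.le_normalizer] at h1
  have h2 := card_mul_le_of_ti (Subgroup.normalizer (A : Set G)) (ns A) (by
    intro g s hs hgs
    obtain ⟨hsA, hs1⟩ := mem_ns.1 hs
    obtain ⟨hgsA, hgs1⟩ := mem_ns.1 hgs
    refine h.ti hgsA hgs1 ?_
    have e : g⁻¹ * (g * s * g⁻¹) * g = s := by group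
    rw [e]; exact hsA)
  rw [hMA, h.cfg.card_eq] at h2
  have hpos : 0 < Nat.card A := Nat.card_pos
  apply Nat.le_of_mul_le_mul_left _ hpos
  calc Nat.card A * (Nat.card B * (ns A).ncard)
      = Nat.card A * Nat.card B * (ns A).ncard := by ring
    _ ≤ (conjSet (ns A)).ncard * (Nat.card A * Nat.card (XX B A)) := h2
    _ = Nat.card A * ((conjSet (ns A)).ncard * Nat.card (XX B A)) := by ring

theorem MinCex.count_W (h : MinCex A B) :
    Nat.card A * Nat.card B * ((ns (XX A B)).ncard * (ns (XX B A)).ncard) ≤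
      (conjSet (ns (XX A B) * ns (XX B A))).ncard *
        (Nat.card (XX A B) * Nat.card (XX B A)) := by
  have hinj : Set.InjOn (fun p : G × G => p.1 * p.2) (ns (XX A B) ×ˢ ns (XX B A)) := by
    rintro ⟨x, y⟩ ⟨hx, hy⟩ ⟨x', y'⟩ ⟨hx', hy'⟩ heq
    have heq' : x * y = x' * y' := heq
    obtain ⟨hxX, -⟩ := mem_ns.1 hx
    obtain ⟨hyY, -⟩ := mem_ns.1 hy
    obtain ⟨hx'X, -⟩ := mem_ns.1 hx'
    obtain ⟨hy'Y, -⟩ := mem_ns.1 hy'
    have h1 : x'⁻¹ * x ∈ A := A.mul_mem (A.inv_mem hx'X.1) hxX.1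
    have h2 : x'⁻¹ * x ∈ B := by
      have e : x'⁻¹ * x = y' * y⁻¹ := by
        calc x'⁻¹ * x = x'⁻¹ * (x * y) * y⁻¹ := by group
          _ = x'⁻¹ * (x' * y') * y⁻¹ := by rw [heq']
          _ = y' * y⁻¹ := by group
      rw [e]; exact B.mul_mem hy'Y.1 (B.inv_mem hyY.1)
    have h3 := h.cfg.eq_one_of_mem h1 h2
    have hxx : x = x' := by rw [inv_mul_eq_one] at h3; exact h3.symm
    subst hxx
    have hyy : y = y' := mul_left_cancel heq'
    rw [hyy]
  have hcardW : (ns (XX A B) * ns (XX B A)).ncard =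
      (ns (XX A B)).ncard * (ns (XX B A)).ncard := by
    have e : ns (XX A B) * ns (XX B A) =
        (fun p : G × G => p.1 * p.2) '' (ns (XX A B) ×ˢ ns (XX B A)) := by
      ext w
      constructor
      · intro hw
        obtain ⟨x, hx, y, hy, e0⟩ := Set.mem_mul.1 hw
        exact ⟨(x, y), ⟨hx, hy⟩, e0⟩
      · rintro ⟨⟨x, y⟩, ⟨hx, hy⟩, e0⟩
        exact Set.mem_mul.2 ⟨x, hx, y, hy, e0⟩
    rw [e, hinj.ncard_image, Set.ncard_prod]
  have hti : ∀ g : G, ∀ s ∈ ns (XX A B) * ns (XX B A),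
      g * s * g⁻¹ ∈ ns (XX A B) * ns (XX B A) →
      g ∈ Subgroup.normalizer (A : Set G) ⊓ Subgroup.normalizer (B : Set G) := by
    intro g s hs hgs
    obtain ⟨x, hx, y, hy, e⟩ := Set.mem_mul.1 hs
    obtain ⟨x', hx', y', hy', e'⟩ := Set.mem_mul.1 hgs
    subst e
    obtain ⟨hxX, hx1⟩ := mem_ns.1 hx
    obtain ⟨hyY, hy1⟩ := mem_ns.1 hy
    obtain ⟨hx'X, hx'1⟩ := mem_ns.1 hx'
    obtain ⟨hy'Y, hy'1⟩ := mem_ns.1 hy'
    have hc : Commute x y := h.commute_XY hxX hyY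
    have hc' : Commute x' y' := h.commute_XY hx'X hy'Y
    have hxa : x ^ Nat.card A = 1 := pow_card_of_mem hxX.1
    have hyb : y ^ Nat.card B = 1 := pow_card_of_mem hyY.1
    have hx'a : x' ^ Nat.card A = 1 := pow_card_of_mem hx'X.1
    have hy'b : y' ^ Nat.card B = 1 := pow_card_of_mem hy'Y.1
    constructor
    · have hu : x' ^ Nat.card B ∈ A := A.pow_mem hx'X.1 _
      have hu1 : x' ^ Nat.card B ≠ 1 := fun hh =>
        hx'1 (pow_eq_one_of_coprime h.cfg.cop hx'a hh)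
      have hconj : g * x ^ Nat.card B * g⁻¹ = x' ^ Nat.card B := by
        have h1 : (g * (x * y) * g⁻¹) ^ Nat.card B = (x' * y') ^ Nat.card B := by rw [e']
        rw [conj_pow, hc.mul_pow, hc'.mul_pow, hyb, hy'b, mul_one, mul_one] at h1
        exact h1
      apply h.ti hu hu1
      rw [← hconj]
      have e2 : g⁻¹ * (g * x ^ Nat.card B * g⁻¹) * g = x ^ Nat.card B := by group
      rw [e2]; exact A.pow_mem hxX.1 _
    · have hu : y' ^ Nat.card A ∈ B := B.pow_mem hy'Y.1 _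
      have hu1 : y' ^ Nat.card A ≠ 1 := fun hh =>
        hy'1 (pow_eq_one_of_coprime h.cfg.cop hh hy'b)
      have hconj : g * y ^ Nat.card A * g⁻¹ = y' ^ Nat.card A := by
        have h1 : (g * (x * y) * g⁻¹) ^ Nat.card A = (x' * y') ^ Nat.card A := by rw [e']
        rw [conj_pow, hc.mul_pow, hc'.mul_pow, hxa, hx'a, one_mul, one_mul] at h1
        exact h1
      apply h.symm.ti hu hu1
      rw [← hconj]
      have e2 : g⁻¹ * (g * y ^ Nat.card A * g⁻¹) * g = y ^ Nat.card A := by group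
      rw [e2]; exact B.pow_mem hyY.1 _
  have h2 := card_mul_le_of_ti _ _ hti
  have hM : Nat.card (Subgroup.normalizer (A : Set G) ⊓ Subgroup.normalizer (B : Set G) :
      Subgroup G) ≤ Nat.card (XX A B) * Nat.card (XX B A) := by
    have hmem : ∀ p : XX A B × XX B A, (p.1 : G) * (p.2 : G) ∈
        Subgroup.normalizer (A : Set G) ⊓ Subgroup.normalizer (B : Set G) := by
      intro p
      exact ⟨Subgroup.mul_mem _ (Subgroup.le_normalizer p.1.2.1) p.2.2.2,
        Subgroup.mul_mem _ p.1.2.2 (Subgroup.le_normalizer p.2.2.1)⟩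
    let f : XX A B × XX B A →
        (Subgroup.normalizer (A : Set G) ⊓ Subgroup.normalizer (B : Set G) : Subgroup G) :=
      fun p => ⟨p.1 * p.2, hmem p⟩
    have hf : Function.Surjective f := by
      rintro ⟨g, hgA, hgB⟩
      obtain ⟨a, ha, b, hb, e⟩ := h.cfg.fact g
      have hbN : b ∈ Subgroup.normalizer (A : Set G) := by
        have e2 : b = a⁻¹ * g := by rw [e]; group
        rw [e2]
        exact Subgroup.mul_mem _ (Subgroup.inv_mem _ (Subgroup.le_normalizer ha)) hgA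
      have haN : a ∈ Subgroup.normalizer (B : Set G) := by
        have e2 : a = g * b⁻¹ := by rw [e]; group
        rw [e2]
        exact Subgroup.mul_mem _ hgB (Subgroup.inv_mem _ (Subgroup.le_normalizer hb))
      exact ⟨(⟨a, ha, haN⟩, ⟨b, hb, hbN⟩), Subtype.ext e.symm⟩
    have h3 := Nat.card_le_card_of_surjective f hf
    rwa [Nat.card_prod] at h3
  rw [h.cfg.card_eq, hcardW] at h2
  exact h2.trans (Nat.mul_le_mul_left _ hM)

theorem MinCex.count_sum (h : MinCex A B) :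
    (conjSet (ns A)).ncard + (conjSet (ns B)).ncard +
      (conjSet (ns (XX A B) * ns (XX B A))).ncard + 1 ≤ Nat.card A * Nat.card B := by
  have hUA : ∀ w ∈ conjSet (ns A), w ≠ 1 ∧ w ^ Nat.card A = 1 := by
    rintro w ⟨g, s, hs, rfl⟩
    obtain ⟨hsA, hs1⟩ := mem_ns.1 hs
    refine ⟨fun hh => hs1 (conj_eq_one_iff.1 hh), ?_⟩
    rw [conj_pow, pow_card_of_mem hsA, mul_one, mul_inv_cancel]
  have hUB : ∀ w ∈ conjSet (ns B), w ≠ 1 ∧ w ^ Nat.card B = 1 := by
    rintro w ⟨g, s, hs, rfl⟩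
    obtain ⟨hsA, hs1⟩ := mem_ns.1 hs
    refine ⟨fun hh => hs1 (conj_eq_one_iff.1 hh), ?_⟩
    rw [conj_pow, pow_card_of_mem hsA, mul_one, mul_inv_cancel]
  have hUW : ∀ w ∈ conjSet (ns (XX A B) * ns (XX B A)),
      w ^ Nat.card A ≠ 1 ∧ w ^ Nat.card B ≠ 1 := by
    rintro w ⟨g, s, hs, rfl⟩
    obtain ⟨x, hx, y, hy, e⟩ := Set.mem_mul.1 hs
    subst e
    obtain ⟨hxX, hx1⟩ := mem_ns.1 hx
    obtain ⟨hyY, hy1⟩ := mem_ns.1 hy
    have hc : Commute x y := h.commute_XY hxX hyY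
    have hxa : x ^ Nat.card A = 1 := pow_card_of_mem hxX.1
    have hyb : y ^ Nat.card B = 1 := pow_card_of_mem hyY.1
    constructor
    · rw [conj_pow, hc.mul_pow, hxa, one_mul]
      intro hh
      exact hy1 (pow_eq_one_of_coprime h.cfg.cop (conj_eq_one_iff.1 hh) hyb)
    · rw [conj_pow, hc.mul_pow, hyb, mul_one]
      intro hh
      exact hx1 (pow_eq_one_of_coprime h.cfg.cop hxa (conj_eq_one_iff.1 hh))
  have d1 : Disjoint (conjSet (ns A)) (conjSet (ns B)) := by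
    rw [Set.disjoint_left]
    intro w hwA hwB
    exact (hUA w hwA).1 (pow_eq_one_of_coprime h.cfg.cop (hUA w hwA).2 (hUB w hwB).2)
  have d2 : Disjoint (conjSet (ns A) ∪ conjSet (ns B))
      (conjSet (ns (XX A B) * ns (XX B A))) := by
    rw [Set.disjoint_left]
    rintro w (hw | hw) hwW
    · exact (hUW w hwW).1 (hUA w hw).2
    · exact (hUW w hwW).2 (hUB w hw).2
  have d3 : Disjoint (conjSet (ns A) ∪ conjSet (ns B) ∪
      conjSet (ns (XX A B) * ns (XX B A))) {1} := by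
    rw [Set.disjoint_left]
    rintro w hw hw1
    rw [Set.mem_singleton_iff] at hw1
    subst hw1
    rcases hw with (hw | hw) | hw
    · exact (hUA 1 hw).1 rfl
    · exact (hUB 1 hw).1 rfl
    · exact (hUW 1 hw).1 (one_pow _)
  have h1 := Set.ncard_le_card (conjSet (ns A) ∪ conjSet (ns B) ∪
    conjSet (ns (XX A B) * ns (XX B A)) ∪ {1})
  rw [Set.ncard_union_eq d3, Set.ncard_union_eq d2, Set.ncard_union_eq d1, Set.ncard_singleton,
    h.cfg.card_eq] at h1
  exact h1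

theorem MinCex.card_XX_lt (h : MinCex A B) : Nat.card (XX A B) < Nat.card A := by
  have hle : XX A B ≤ A := inf_le_left
  apply lt_of_le_of_ne (Subgroup.card_le_of_le hle)
  intro heq
  have hXA : XX A B = A := Subgroup.eq_of_le_of_card_ge hle heq.ge
  have hAN : A ≤ Subgroup.normalizer (B : Set G) := by
    intro a ha
    have h1 : a ∈ XX A B := by rw [hXA]; exact ha
    exact h1.2
  have hN : Subgroup.normalizer (B : Set G) = ⊤ := by
    rw [eq_top_iff]; intro g _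
    obtain ⟨a, ha, b, hb, rfl⟩ := h.cfg.fact g
    exact Subgroup.mul_mem _ (hAN ha) (Subgroup.le_normalizer hb)
  rcases h.eq_bot_or_top_of_normalizer hN with h1 | h1
  · exact h.B_ne_bot h1
  · exact h.B_ne_top h1

theorem arith_final {a b ξ η sa sb sx sy UA UB UW : ℕ} (cA : b * sa ≤ UA * η)
    (cB : a * sb ≤ UB * ξ) (cW : a * b * (sx * sy) ≤ UW * (ξ * η))
    (cS : UA + UB + UW + 1 ≤ a * b) (hξ : ξ < a) (hη : η < b) (e1 : sa + 1 = a)
    (e2 : sb + 1 = b) (e3 : sx + 1 = ξ) (e4 : sy + 1 = η) : False := by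
  subst e1 e2 e3 e4
  have k1 : (sx + 1) * ((sb + 1) * sa) ≤ (sx + 1) * (UA * (sy + 1)) := Nat.mul_le_mul_left _ cA
  have k2 : (sy + 1) * ((sa + 1) * sb) ≤ (sy + 1) * (UB * (sx + 1)) := Nat.mul_le_mul_left _ cB
  have k3 : (sx + 1) * (sy + 1) * (UA + UB + UW + 1) ≤
      (sx + 1) * (sy + 1) * ((sa + 1) * (sb + 1)) := Nat.mul_le_mul_left _ cS
  zify at k1 k2 k3 cW hξ hη
  have pos : (0 : ℤ) < ((sa : ℤ) - sx) * ((sb : ℤ) - sy) :=
    mul_pos (by linarith) (by linarith)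
  nlinarith [k1, k2, k3, cW, pos]

/-- the minimal counterexample does not exist -/
theorem MinCex.false (h : MinCex A B) : False :=
  arith_final h.count_A h.symm.count_A h.count_W h.count_sum h.card_XX_lt h.symm.card_XX_lt
    (ncard_ns A) (ncard_ns B) (ncard_ns (XX A B)) (ncard_ns (XX B A))

end Cfsg.Agent.Lib.Helper57.Wie
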